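import Cfsg.Agent.BMx.Fast
set_option linter.all false

/-!
# `L₂(31)` in the Baby Monster: words and relations (helper2, for S5527)
-/

set_option autoImplicit false

namespace Cfsg.Agent.BX.L31

open Cfsg.Agent.BabyM.Conc Cfsg.Agent.H819.U33 Cfsg.Agent.BMx.Fast

/-- `u`, of order 31 -/
def wu : List Ltr := [.z, .Z9, .Z7, .Z6, .Z4, .Z3, .Z0, .X10, .X8, .X7, .X5, .X4, .y10, .y9, .y8, .y5, .y3, .hi, .p7, .hi, .p10, .hi, .p, .hi, .p3, .hi, .p10, .hi, .p9, .hi, .taui, .X0, .p8, .xii, .y9, .p4, .hi, .p7, .taui, .xii, .y2, .p10]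

/-- `h`, of order 15 -/
def wh : List Ltr := [.Z9, .Z8, .Z7, .Z5, .Z3, .Z2, .Z0, .X10, .X9, .X7, .X4, .X3, .X1, .X0, .y9, .y8, .y5, .y4, .p4, .hi, .p8, .hi, .p5, .hi, .p9, .hi, .p4, .hi, .xii, .y2, .p, .xii, .p, .xii, .y2, .y3, .taui, .y1, .xii, .p10, .xii, .y1, .p10, .xii, .y2, .y10, .tau, .xii, .y6, .p, .xii, .p, .xii, .y4, .y5, .y8, .taui, .X0, .y1, .p9, .xii, .y4, .hi, .xii, .taui, .xii, .p6, .xii, .hi, .y9, .xii, .y8, .taui, .xii, .p9, .xii, .y1]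

/-- `w`, an involution -/
def ww : List Ltr := [.Z9, .Z8, .Z7, .Z4, .Z0, .X9, .X6, .X5, .X3, .X2, .X1, .X0, .y10, .y7, .y6, .y2, .y1, .p10, .hi, .p, .hi, .p8, .xii, .y2, .hi, .xii, .p10, .xii, .y2, .taui, .y1, .xii, .y6, .p10, .xii, .y8, .p10, .xii, .y10, .tau, .xii, .y6, .p, .xii, .y4, .p, .xii, .y1, .tau, .p7, .xii, .p8, .xii, .y5, .tau, .xii, .p8, .xii, .p4, .y7, .xii, .y4, .taui, .xii, .p4, .xii, .y6]

theorem ord_u : orderOf (g wu) = 31 := orderOf_of_ordF (by decide +kernel)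

theorem ord_h : orderOf (g wh) = 15 := orderOf_of_ordF (by decide +kernel)

theorem u_pow : g wu ^ 31 = 1 := by rw [← ord_u]; exact pow_orderOf_eq_one _

theorem h_pow : g wh ^ 15 = 1 := by rw [← ord_h]; exact pow_orderOf_eq_one _

theorem u_ne : g wu ≠ 1 := by
  intro h
  have h1 := ord_u
  rw [h, orderOf_one] at h1
  exact absurd h1 (by norm_num)

theorem h_u : g wh * g wu * (g wh)⁻¹ = g wu ^ 9 := by
  rw [mul_inv_eq_iff_eq_mul, ← g_pw, ← g_append, ← g_append]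
  exact eq_of_eqF (by decide +kernel)

theorem w_sq : g ww ^ 2 = 1 := pow_of_powF (by decide +kernel)

theorem w_h : (g ww * g wh) ^ 2 = 1 := by
  rw [← g_append]
  exact pow_of_powF (by decide +kernel)

theorem u_w : (g wu * g ww) ^ 3 = 1 := by
  rw [← g_append]
  exact pow_of_powF (by decide +kernel)

end Cfsg.Agent.BX.L31
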